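import Groth.Agent.FlatMorOne.FlatLocusNoeth
import Mathlib.RingTheory.Extension.Presentation.Core
import Mathlib.RingTheory.Flat.Basic
import Mathlib.RingTheory.Ideal.Maps
import Mathlib.LinearAlgebra.TensorProduct.Tower
import Mathlib.LinearAlgebra.Finsupp.LSum

/-!
# Separating families of localizations stay separating after a flat, finitely presented base change
-/

set_option autoImplicit false
universe u

open TensorProduct

namespace Groth.FlatDense

section Coordinates

variable {R : Type u} [CommRing R] {M : Type u} [AddCommGroup M] [Module R M]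
  {J : Type u} [AddCommGroup J] [Module R J]

/-- The combination `∑ c i ⊗ Ψ (e i)`. -/
noncomputable def comb {ι : Type u} (Ψ : (ι →₀ R) →ₗ[R] M) : (ι →₀ J) →ₗ[R] J ⊗[R] M :=
  Finsupp.lsum R fun i => (TensorProduct.mk R J M).flip (Ψ (Finsupp.single i 1))

/-- A family which is a basis of `M / pM` away from `g` has unique coefficients, up to `g`-torsion, in
any module killed by `p`. -/
theorem coeff_torsion (p : Ideal R) (g : R) {ι : Type u} (Ψ : (ι →₀ R) →ₗ[R] M)
    (hinj : ∀ x, Ψ x ∈ p • (⊤ : Submodule R M) → ∃ k : ℕ, g ^ k • x ∈ p • (⊤ : Submodule R (ι →₀ R)))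
    (hsurj : ∀ m, ∃ k : ℕ, g ^ k • m ∈ LinearMap.range Ψ ⊔ p • ⊤)
    (hpJ : ∀ π ∈ p, ∀ j : J, π • j = 0) (c : ι →₀ J) (hc : comb Ψ c = 0) (i : ι) :
    ∃ k : ℕ, g ^ k • c i = 0 := by
  let S := Submonoid.powers g
  let N := (ι →₀ R) ⧸ p • (⊤ : Submodule R (ι →₀ R))
  let M' := M ⧸ p • (⊤ : Submodule R M)
  have hle : p • (⊤ : Submodule R (ι →₀ R)) ≤ (p • (⊤ : Submodule R M)).comap Ψ := by
    rw [← Submodule.map_le_iff_le_comap, Submodule.map_smul'']
    exact Submodule.smul_mono le_rfl le_top
  let Ψ' : N →ₗ[R] M' := Submodule.mapQ _ _ Ψ hle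
  let L := LocalizedModule.map S Ψ'
  have hL : Function.Bijective L := by
    constructor
    · rw [injective_iff_map_eq_zero]
      intro z hz
      induction z using LocalizedModule.induction_on with
      | h y s =>
        obtain ⟨x, rfl⟩ := Submodule.Quotient.mk_surjective _ y
        rw [LocalizedModule.map_mk] at hz
        obtain ⟨⟨_, l, rfl⟩, hl⟩ := LocalizedModule.mk_eq.1 (hz.trans (LocalizedModule.zero_mk 1).symm)
        simp only [smul_zero, one_smul, Submonoid.smul_def] at hl
        rw [← map_smul, ← Submodule.Quotient.mk_smul, Submodule.mapQ_apply, Submodule.Quotient.mk_eq_zero] at hl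
        obtain ⟨k, hk⟩ := hinj _ hl
        rw [← LocalizedModule.zero_mk 1, LocalizedModule.mk_eq]
        refine ⟨⟨_, k + l, rfl⟩, ?_⟩
        simp only [smul_zero, one_smul, Submonoid.smul_def]
        rw [← Submodule.Quotient.mk_smul, Submodule.Quotient.mk_eq_zero, pow_add, mul_smul]
        exact hk
    · intro z
      induction z using LocalizedModule.induction_on with
      | h y s =>
        obtain ⟨m, rfl⟩ := Submodule.Quotient.mk_surjective _ y
        obtain ⟨k, hk⟩ := hsurj m
        obtain ⟨_, ⟨x, rfl⟩, w, hw, hsum⟩ := Submodule.mem_sup.1 hk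
        refine ⟨LocalizedModule.mk (Submodule.Quotient.mk x) (⟨g ^ k, k, rfl⟩ * s), ?_⟩
        rw [LocalizedModule.map_mk, Submodule.mapQ_apply, LocalizedModule.mk_eq]
        refine ⟨1, ?_⟩
        simp only [one_smul, Submonoid.smul_def, Submonoid.coe_mul]
        rw [← Submodule.Quotient.mk_smul, ← Submodule.Quotient.mk_smul, Submodule.Quotient.eq, mul_comm,
          mul_smul, ← smul_sub, ← hsum]
        refine Submodule.smul_mem _ _ ?_
        simpa using neg_mem hw
  let lam : M →ₗ[R] LocalizedModule S N :=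
    ((LinearEquiv.ofBijective L hL).symm.toLinearMap.restrictScalars R) ∘ₗ
      LocalizedModule.mkLinearMap S M' ∘ₗ Submodule.mkQ _
  have hlam : ∀ x, lam (Ψ x) = LocalizedModule.mk (Submodule.Quotient.mk x) 1 := fun x => by
    refine (LinearEquiv.ofBijective L hL).injective ?_
    simp only [lam, LinearMap.comp_apply, LinearMap.coe_restrictScalars, LinearEquiv.coe_coe,
      LinearEquiv.apply_symm_apply, Submodule.mkQ_apply, LocalizedModule.mkLinearMap_apply,
      LinearEquiv.ofBijective_apply, L, LocalizedModule.map_mk, Ψ', Submodule.mapQ_apply]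
    rfl
  let D : J →ₗ[R] N →ₗ[R] J :=
    LinearMap.flip (Submodule.liftQ _
      ((LinearMap.lsmul R J).comp (Finsupp.lapply i))
      (Submodule.smul_le.2 fun π hπ x _ => by
        ext j
        simp [mul_smul, hpJ π hπ]))
  have hD : ∀ (j : J) (x : ι →₀ R), D j (Submodule.Quotient.mk x) = x i • j := fun j x => rfl
  let E : J →ₗ[R] M →ₗ[R] LocalizedModule S J :=
    { toFun := fun j => (LocalizedModule.map S (D j)).restrictScalars R ∘ₗ lam
      map_add' := fun a b => by
        ext m
        simp only [map_add, LinearMap.comp_apply, LinearMap.coe_restrictScalars, LinearMap.add_apply]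
      map_smul' := fun r a => by
        ext m
        simp only [map_smul, LinearMap.comp_apply, LinearMap.coe_restrictScalars, LinearMap.smul_apply, RingHom.id_apply]
        }
  have key : ∀ c : ι →₀ J, TensorProduct.lift E (comb Ψ c) = LocalizedModule.mk (c i) 1 := fun c => by
    classical
    induction c using Finsupp.induction_linear with
    | zero => simp
    | add a b ha hb => simp [map_add, ha, hb, LocalizedModule.mk_add_mk]
    | single k j =>
      simp [comb, E, hlam, LocalizedModule.map_mk, hD, Finsupp.single_apply, ite_smul]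
  have key := key c
  rw [hc, map_zero, eq_comm, ← LocalizedModule.zero_mk 1, LocalizedModule.mk_eq] at key
  obtain ⟨⟨_, k, rfl⟩, hk⟩ := key
  exact ⟨k, by simpa [Submonoid.smul_def] using hk⟩

/-- Elements of `J ⊗ M` are combinations up to `g`-torsion. -/
theorem exists_comb (p : Ideal R) (g : R) {ι : Type u} (Ψ : (ι →₀ R) →ₗ[R] M)
    (hsurj : ∀ m, ∃ k : ℕ, g ^ k • m ∈ LinearMap.range Ψ ⊔ p • ⊤)
    (hpJ : ∀ π ∈ p, ∀ j : J, π • j = 0) (z : J ⊗[R] M) :
    ∃ (k : ℕ) (c : ι →₀ J), g ^ k • z = comb Ψ c := by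
  induction z with
  | zero => exact ⟨0, 0, by simp⟩
  | add a b ha hb =>
    obtain ⟨k, c, hc⟩ := ha
    obtain ⟨l, d, hd⟩ := hb
    exact ⟨k + l, g ^ l • c + g ^ k • d, by
      rw [map_add, map_smul, map_smul, ← hc, ← hd, smul_add, smul_smul, smul_smul, pow_add]; ring_nf⟩
  | tmul j m =>
    obtain ⟨k, hk⟩ := hsurj m
    obtain ⟨_, ⟨x, rfl⟩, w, hw, hsum⟩ := Submodule.mem_sup.1 hk
    have hw0 : j ⊗ₜ[R] w = 0 := by
      clear hsum
      induction hw using Submodule.smul_induction_on' with
      | smul π hπ y _ => rw [← TensorProduct.smul_tmul, hpJ π hπ, TensorProduct.zero_tmul]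
      | add a _ b _ ha hb => rw [TensorProduct.tmul_add, ha, hb, add_zero]
    refine ⟨k, x.mapRange (· • j) (zero_smul R j), ?_⟩
    rw [← TensorProduct.tmul_smul, ← hsum, TensorProduct.tmul_add, hw0, add_zero]
    clear hsum
    induction x using Finsupp.induction_linear with
    | zero => simp
    | add a b ha hb =>
      rw [Finsupp.mapRange_add (f := fun r : R => r • j) (fun r s => add_smul r s j), map_add, map_add,
        TensorProduct.tmul_add, ha, hb]
    | single i r =>
      rw [Finsupp.mapRange_single, ← mul_one r, ← Finsupp.smul_single', map_smul, TensorProduct.tmul_smul]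
      simp [comb, TensorProduct.smul_tmul']

end Coordinates

variable {A B : Type u} [CommRing A] [CommRing B] [Algebra A B]

/-- If every `a` and every localisation of it is determined by its images in the `A_γ`, the same
holds for a flat finitely presented `A`-algebra. -/
theorem eq_zero_of_forall [Module.Flat A B] [Algebra.FinitePresentation A B] (G : Set A)
    (hG : ∀ a t : A, (∀ γ ∈ G, ∃ m : ℕ, (γ * t) ^ m * a = 0) → ∃ L : ℕ, t ^ L * a = 0)
    (s : B) (hs : ∀ γ ∈ G, ∃ m : ℕ, γ ^ m • s = 0) : s = 0 := by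
  classical
  by_contra hs0
  let P := Algebra.Presentation.ofFinitePresentation A B
  let A₀ := P.Core
  have : IsNoetherianRing A₀ := Algebra.FiniteType.isNoetherianRing ℤ A₀
  let B₀ := P.ModelOfHasCoeffs A₀
  have : IsNoetherianRing B₀ := Algebra.FiniteType.isNoetherianRing A₀ B₀
  let e : A ⊗[A₀] B₀ ≃ₐ[A] B := P.tensorModelOfHasCoeffsEquiv A₀
  let φ : B₀ →+* B := e.toAlgHom.toRingHom.comp Algebra.TensorProduct.includeRight.toRingHom
  have hφ : ∀ π, φ (algebraMap A₀ B₀ π) = algebraMap A B (algebraMap A₀ A π) := fun π => by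
    rw [← e.commutes, Algebra.TensorProduct.algebraMap_apply, Algebra.algebraMap_self_apply,
      Algebra.algebraMap_eq_smul_one (A := A), TensorProduct.smul_tmul, ← Algebra.algebraMap_eq_smul_one]
    rfl
  let ann : B → Ideal B₀ := fun x => Ideal.comap φ (LinearMap.ker (LinearMap.toSpanSingleton B B x))
  have hann : ∀ x r, r ∈ ann x ↔ φ r * x = 0 := fun x r => by simp [ann]
  let 𝒮 : Set (Ideal B₀) := {I | ∃ b : B, b * s ≠ 0 ∧ ann (b * s) = I}
  have hmax : ∃ q : Ideal B₀, q ∈ 𝒮 ∧ ∀ I ∈ 𝒮, ¬ q < I := set_has_maximal_iff_noetherian.2 inferInstance 𝒮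
    ⟨_, 1, by rwa [one_mul], rfl⟩
  obtain ⟨q, ⟨b₁, hb₁, hq⟩, hqmax⟩ := hmax
  set x := b₁ * s
  have hxG : ∀ γ ∈ G, ∃ m : ℕ, γ ^ m • x = 0 := fun γ hγ => (hs γ hγ).imp fun m hm => by
    rw [← mul_smul_comm, hm, mul_zero]
  have hqp : q.IsPrime := by
    refine ⟨fun h => hb₁ ?_, fun {a b} hab => or_iff_not_imp_right.2 fun hb => ?_⟩
    · have := (hann x 1).1 (hq ▸ h ▸ Submodule.mem_top)
      simpa using this
    · rw [← hq, hann] at hb
      have hne : φ b * b₁ * s ≠ 0 := by rwa [mul_assoc]
      have hle : q ≤ ann (φ b * b₁ * s) := fun r hr => by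
        rw [← hq, hann] at hr
        rw [hann, show φ r * (φ b * b₁ * s) = φ b * (φ r * x) by ring, hr, mul_zero]
      rw [eq_of_le_of_not_lt hle (hqmax _ ⟨φ b * b₁, hne, rfl⟩), hann,
        show φ a * (φ b * b₁ * s) = φ (a * b) * x by rw [map_mul]; ring, ← hann, hq]
      exact hab
  let p : Ideal A₀ := q.comap (algebraMap A₀ B₀)
  have hpp : p.IsPrime := Ideal.comap_isPrime _ _
  have hpx : ∀ π ∈ p, algebraMap A B (algebraMap A₀ A π) * x = 0 := fun π hπ => by
    have := (hann x (algebraMap A₀ B₀ π)).1 (hq ▸ hπ)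
    rwa [hφ] at this
  -- the ideal killed by `p`
  obtain ⟨n, π, hπ⟩ := Submodule.fg_iff_exists_fin_generating_family.1 (IsNoetherian.noetherian p)
  let f : A →ₗ[A] (Fin n → A) := LinearMap.pi fun k => LinearMap.lsmul A A (algebraMap A₀ A (π k))
  let J : Ideal A := LinearMap.ker f
  have hpJ : ∀ c ∈ p, ∀ j : J, c • j = 0 := fun c hc j => by
    rw [← hπ] at hc
    induction hc using Submodule.span_induction with
    | mem y hy =>
      obtain ⟨k, rfl⟩ := hy
      refine Subtype.ext ?_
      have := congr_fun (LinearMap.mem_ker.1 j.2) k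
      simpa [f, Algebra.smul_def] using this
    | zero => simp
    | add a b _ _ ha hb => rw [add_smul, ha, hb, add_zero]
    | smul a b _ hb => rw [smul_assoc, hb, smul_zero]
  let i1 : (J : Type u) ⊗[A₀] B₀ ≃ₗ[A] (J : Type u) ⊗[A] B :=
    (AlgebraTensorModule.cancelBaseChange A₀ A A J B₀).symm ≪≫ₗ
      TensorProduct.congr (LinearEquiv.refl A J) e.toLinearEquiv
  let Φ : (J : Type u) ⊗[A₀] B₀ →ₗ[A] B :=
    (TensorProduct.lid A B).toLinearMap ∘ₗ LinearMap.rTensor B J.subtype ∘ₗ i1.toLinearMap
  have hΦ : Function.Injective Φ := (TensorProduct.lid A B).injective.comp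
    ((Module.Flat.rTensor_preserves_injective_linearMap J.subtype J.injective_subtype).comp i1.injective)
  obtain ⟨z, hz⟩ : ∃ z, Φ z = x := by
    have hex : Function.Exact (LinearMap.rTensor B J.subtype) (LinearMap.rTensor B f) :=
      Module.Flat.rTensor_exact B (LinearMap.exact_subtype_ker_map f)
    have h0 : LinearMap.rTensor B f (1 ⊗ₜ[A] x) = 0 := by
      apply ((TensorProduct.comm A (Fin n → A) B).trans (TensorProduct.piScalarRight A A B (Fin n))).injective
      rw [map_zero]
      funext k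
      simpa [f, Algebra.smul_def] using hpx (π k) (hπ ▸ Submodule.subset_span ⟨k, rfl⟩)
    obtain ⟨y, hy⟩ := (hex _).1 h0
    exact ⟨i1.symm y, by simp [Φ, hy]⟩
  obtain ⟨g, hg, ι, Ψ, hinj, hsurj⟩ := Groth.FlatMorOne.exists_free_mod_prime B₀ B₀ p
  obtain ⟨K, c, hc⟩ := exists_comb p g Ψ hsurj hpJ z
  have hcA : ∀ (a : A) (c : ι →₀ J), comb Ψ (a • c) = a • comb Ψ c := fun a c => by
    induction c using Finsupp.induction_linear with
    | zero => simp
    | add d d' hd hd' => simp [map_add, smul_add, hd, hd']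
    | single k j => simp [comb, TensorProduct.smul_tmul']
  have hkill : ∀ k, ∃ L : ℕ, g ^ L • c k = 0 := by
    intro k
    obtain ⟨L, hL⟩ := hG (c k : A) (algebraMap A₀ A g) fun γ hγ => by
      obtain ⟨m, hm⟩ := hxG γ hγ
      have hz0 : γ ^ m • z = 0 := hΦ (by rw [map_smul, hz, hm, map_zero])
      obtain ⟨L, hL⟩ := coeff_torsion p g Ψ hinj hsurj hpJ (γ ^ m • c)
        (by rw [hcA, ← hc, smul_comm, hz0, smul_zero]) k
      refine ⟨m + L, ?_⟩
      have := congrArg Subtype.val hL
      simp only [Finsupp.coe_smul, Pi.smul_apply, Submodule.coe_smul_of_tower, SetLike.val_smul, smul_eq_mul, ZeroMemClass.coe_zero] at this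
      rw [Algebra.smul_def, map_pow] at this
      rw [mul_pow, pow_add, pow_add,
        show γ ^ m * γ ^ L * (algebraMap A₀ A g ^ m * algebraMap A₀ A g ^ L) * (c k : A) =
          γ ^ L * algebraMap A₀ A g ^ m * (algebraMap A₀ A g ^ L * (γ ^ m * (c k : A))) by ring,
        this, mul_zero]
    exact ⟨L, Subtype.ext (by simpa [Algebra.smul_def] using hL)⟩
  choose L hL using hkill
  obtain ⟨N, hN⟩ : ∃ N : ℕ, g ^ N • c = 0 := ⟨c.support.sup L, Finsupp.ext fun k => by
    by_cases hk : k ∈ c.support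
    · rw [Finsupp.smul_apply, ← Nat.sub_add_cancel (Finset.le_sup (f := L) hk), pow_add, mul_smul,
        hL k, smul_zero, Finsupp.zero_apply]
    · rw [Finsupp.smul_apply, Finsupp.notMem_support_iff.1 hk, smul_zero, Finsupp.zero_apply]⟩
  have hz0 : algebraMap A₀ A (g ^ (N + K)) • z = 0 := by
    rw [algebraMap_smul, pow_add, mul_smul, hc, ← map_smul, hN, map_zero]
  have hx0 := congrArg Φ hz0
  rw [map_smul, hz, map_zero, Algebra.smul_def] at hx0
  have hgq : algebraMap A₀ B₀ (g ^ (N + K)) ∈ q := by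
    rw [← hq, hann, hφ]
    exact hx0
  exact hg (hpp.mem_of_pow_mem _ hgq)

end Groth.FlatDense
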